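import Groth.Agent.DefoSh76.DualSES
import Groth.Agent.MiscSh16.DefoIso
import Groth.Agent.SGA7X.ExtRealize
import Mathlib.RingTheory.Flat.Basic

/-! First-order deformations of a module and `Ext¹`. -/

set_option autoImplicit false
set_option linter.style.haveILetI false
set_option backward.isDefEq.respectTransparency false
set_option backward.isDefEq.respectTransparency.types false

universe u

open CategoryTheory CategoryTheory.Limits AlgebraicGeometry Opposite ArtFun

namespace Groth.Agent.DefoSh76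

section cat

variable {C : Type*} [Category C] [Abelian C] [HasExt.{u} C]

/-- Two extensions with the same class are isomorphic as extensions. -/
theorem exists_hom_of_extClass_eq {A B F F' : C} {i : B ⟶ F} {p : F ⟶ A} {w : i ≫ p = 0}
    {i' : B ⟶ F'} {p' : F' ⟶ A} {w' : i' ≫ p' = 0} (hS : (ShortComplex.mk i p w).ShortExact)
    (hS' : (ShortComplex.mk i' p' w').ShortExact) (h : hS.extClass = hS'.extClass) :
    ∃ f : F ⟶ F', i ≫ f = i' ∧ f ≫ p' = p := by
  haveI := hS.epi_g
  have h0 : hS.extClass.comp (Abelian.Ext.mk₀ i') (add_zero 1) = 0 := by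
    rw [h]; exact hS'.extClass_comp
  obtain ⟨y, hy⟩ := Abelian.Ext.contravariant_sequence_exact₁ hS F' (Abelian.Ext.mk₀ i') (n₁ := 1) rfl h0
  obtain ⟨f, rfl⟩ := (Abelian.Ext.mk₀_bijective F F').2 y
  have hf : i ≫ f = i' := (Abelian.Ext.mk₀_bijective B F').1 ((Abelian.Ext.mk₀_comp_mk₀ _ _).symm.trans hy)
  have hfp : i ≫ f ≫ p' = 0 := by rw [← Category.assoc, hf, w']
  obtain ⟨φ, hφ⟩ : ∃ φ : A ⟶ A, p ≫ φ = f ≫ p' := ⟨hS.exact.desc _ hfp, hS.exact.g_desc _ _⟩
  let Φ : ShortComplex.mk i p w ⟶ ShortComplex.mk i' p' w' :=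
    ShortComplex.homMk (𝟙 B) f φ ((Category.id_comp _).trans hf.symm) hφ.symm
  have hn := ShortComplex.ShortExact.extClass_naturality hS hS' Φ
  simp only [Φ, ShortComplex.homMk_τ₁, ShortComplex.homMk_τ₃, Abelian.Ext.comp_mk₀_id] at hn
  have hd : (Abelian.Ext.mk₀ (φ - 𝟙 A)).comp hS'.extClass (zero_add 1) = 0 := by
    have e : Abelian.Ext.mk₀ φ = Abelian.Ext.mk₀ (φ - 𝟙 A) + Abelian.Ext.mk₀ (𝟙 A) := by
      rw [← Abelian.Ext.mk₀_add, sub_add_cancel]
    rw [e, Abelian.Ext.add_comp, Abelian.Ext.mk₀_id_comp, h] at hn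
    exact add_eq_right.1 hn.symm
  obtain ⟨y, hy⟩ := Abelian.Ext.covariant_sequence_exact₃ A hS' (Abelian.Ext.mk₀ (φ - 𝟙 A)) (n₁ := 1) rfl hd
  obtain ⟨ψ, rfl⟩ := (Abelian.Ext.mk₀_bijective A F').2 y
  have hψ : ψ ≫ p' = φ - 𝟙 A := (Abelian.Ext.mk₀_bijective A A).1 ((Abelian.Ext.mk₀_comp_mk₀ _ _).symm.trans hy)
  refine ⟨f - p ≫ ψ, ?_, ?_⟩
  · rw [Preadditive.comp_sub, hf, reassoc_of% w, zero_comp, sub_zero]
  · rw [Preadditive.sub_comp, ← hφ, Category.assoc, hψ, Preadditive.comp_sub, Category.comp_id, sub_sub_cancel]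

theorem extClass_eq_zero_of_section {A B F : C} {i : B ⟶ F} {p : F ⟶ A} {w : i ≫ p = 0}
    (hS : (ShortComplex.mk i p w).ShortExact) (s : A ⟶ F) (hs : s ≫ p = 𝟙 A) : hS.extClass = 0 := by
  have h : (Abelian.Ext.mk₀ (s ≫ p)).comp hS.extClass (zero_add 1) = 0 := by
    rw [← Abelian.Ext.mk₀_comp_mk₀, Abelian.Ext.comp_assoc_of_second_deg_zero]
    exact (congrArg (fun z => (Abelian.Ext.mk₀ s).comp z (zero_add 1)) hS.comp_extClass).trans (by simp)
  rwa [hs, Abelian.Ext.mk₀_id_comp] at h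

end cat

variable {k : Type u} [Field k]

theorem eq_smul_eps (z : DualNumber k) (h : TrivSqZeroExt.fst z = 0) :
    z = TrivSqZeroExt.snd z • DualNumber.eps :=
  TrivSqZeroExt.ext (by simp [h]) (by simp)

theorem flat_of_exact {M : Type u} [AddCommGroup M] [Module (Art.dual k k : Type u) M]
    (h : ∀ m : M, epsA k • m = 0 → ∃ m', m = epsA k • m') : Module.Flat (Art.dual k k : Type u) M := by
  rw [Module.Flat.iff_lift_lsmul_comp_subtype_injective]
  intro I _
  let Φ := TensorProduct.lift ((LinearMap.lsmul (Art.dual k k : Type u) M).comp I.subtype)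
  by_cases htop : I = ⊤
  · subst htop
    let e := (TensorProduct.congr (Submodule.topEquiv : (⊤ : Ideal (Art.dual k k : Type u)) ≃ₗ[(Art.dual k k : Type u)] _)
      (LinearEquiv.refl _ M)).trans (TensorProduct.lid _ M)
    have hΦ : Φ = e.toLinearMap := TensorProduct.ext' fun a m => rfl
    exact (congrArg DFunLike.coe hΦ).symm ▸ e.injective
  have hm : ∀ a ∈ I, TrivSqZeroExt.fst (a : DualNumber k) = 0 := fun a ha =>
    (Art.mem_maximalIdeal_iff _ a).1 (IsLocalRing.le_maximalIdeal htop ha)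
  let cst : k → (Art.dual k k : Type u) := fun c => (algebraMap k (DualNumber k) c : DualNumber k)
  have hmem : ∀ a ∈ I, a = cst (TrivSqZeroExt.snd (a : DualNumber k)) * epsA k := fun a ha =>
    (eq_smul_eps (a : DualNumber k) (hm a ha)).trans (Algebra.smul_def _ _)
  by_cases hbot : I = ⊥
  · subst hbot
    exact fun x y _ => Subsingleton.elim x y
  obtain ⟨a, haI, ha0⟩ := Submodule.exists_mem_ne_zero_of_ne_bot hbot
  have hε : epsA k ∈ I := by
    have hs : TrivSqZeroExt.snd (a : DualNumber k) ≠ 0 := fun h0 => ha0 (by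
      rw [hmem a haI, h0]
      show algebraMap k (DualNumber k) 0 * DualNumber.eps = 0
      rw [map_zero, zero_mul])
    have h1 : ∀ s : k, s ≠ 0 → algebraMap k (DualNumber k) s⁻¹ * (algebraMap k (DualNumber k) s * DualNumber.eps) =
        DualNumber.eps := fun s h => by rw [← mul_assoc, ← map_mul, inv_mul_cancel₀ h, map_one, one_mul]
    have : cst (TrivSqZeroExt.snd (a : DualNumber k))⁻¹ * (cst (TrivSqZeroExt.snd (a : DualNumber k)) * epsA k) = epsA k :=
      h1 _ hs
    exact this ▸ Ideal.mul_mem_left _ _ (hmem a haI ▸ haI)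
  have key : ∀ t, ∃ m : M, t = (⟨_, hε⟩ : I) ⊗ₜ[(Art.dual k k : Type u)] m := fun t => by
    induction t using TensorProduct.induction_on with
    | zero => exact ⟨0, (TensorProduct.tmul_zero _ _).symm⟩
    | tmul c m =>
      refine ⟨cst (TrivSqZeroExt.snd ((c : Art.dual k k) : DualNumber k)) • m, ?_⟩
      rw [← TensorProduct.smul_tmul]
      exact congrArg (· ⊗ₜ m) (Subtype.ext (hmem _ c.2))
    | add s t hs ht =>
      obtain ⟨⟨m, rfl⟩, m', rfl⟩ := hs, ht
      exact ⟨m + m', (TensorProduct.tmul_add _ _ _).symm⟩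
  refine (injective_iff_map_eq_zero _).2 fun t ht => ?_
  obtain ⟨m, rfl⟩ := key t
  obtain ⟨m', rfl⟩ := h m ht
  rw [← TensorProduct.smul_tmul]
  refine (congrArg (· ⊗ₜ m') (Subtype.ext ?_)).trans (TensorProduct.zero_tmul _ _)
  exact DualNumber.eps_mul_eps (R := k)

variable {X : Scheme.{u}} [X.Over (Spec (CommRingCat.of k))] {E : X.Modules}

theorem exists_ι (D : DefoSh.Defo E (Art.dual k k)) :
    ∃ ι : E ⟶ D.sheaf, D.π ≫ ι = D.act (DualNumber.eps : DualNumber k) := by
  let e : D.sheaf ⟶ D.sheaf := D.act (epsA k)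
  have h0 : e ≫ D.π = 0 := D.act_π (epsA k) rfl
  haveI : Epi D.π := RPSM.epi_of_stalk D.π fun p => (ModuleCat.epi_iff_surjective _).2 fun v => D.surj p v
  have hex : (ShortComplex.mk e D.π h0).Exact := by
    refine (KFlatLib.exact_iff_stalk _).2 fun p => ?_
    rw [ShortComplex.ShortExact.moduleCat_exact_iff_function_exact]
    letI := D.stalkMod p
    intro v
    refine ⟨fun hv => ?_, ?_⟩
    · refine Submodule.smul_induction_on (D.ker_le p v hv) (fun a ha w _ => ?_) ?_
      · refine ⟨(show (Art.dual k k : Type u) from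
          (TrivSqZeroExt.snd (a : DualNumber k) • (1 : DualNumber k) : DualNumber k)) • w, ?_⟩
        change epsA k • ((_ : (Art.dual k k : Type u)) • w) = a • w
        rw [smul_smul]
        congr 1
        have hfst : TrivSqZeroExt.fst (a : DualNumber k) = 0 := (Art.mem_maximalIdeal_iff _ a).1 ha
        show (DualNumber.eps : DualNumber k) * (TrivSqZeroExt.snd (a : DualNumber k) • 1) = (a : DualNumber k)
        exact TrivSqZeroExt.ext (by simp [hfst]) (by simp)
      · rintro v w ⟨v', rfl⟩ ⟨w', rfl⟩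
        exact ⟨v' + w', map_add _ _ _⟩
    · rintro ⟨w, rfl⟩
      change RefHull.stalkMapₗ D.π p (RefHull.stalkMapₗ e p w) = 0
      rw [← DefoSh.stalkMapₗ_comp_apply, h0, DefoSh.stalkMapₗ_zero_apply]
  have hee : e ≫ e = 0 := by
    refine (End.mul_def (D.act (epsA k)) (D.act (epsA k))).symm.trans ?_
    rw [← map_mul, show epsA k * epsA k = 0 from DualNumber.eps_mul_eps (R := k), map_zero]
  haveI : Epi (ShortComplex.mk e D.π h0).g := ‹Epi D.π›
  exact ⟨hex.desc e hee, hex.g_desc _ _⟩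

/-- The deformation attached to an extension of `E` by `E`. -/
theorem exists_defo {F : X.Modules} (i : E ⟶ F) (p : F ⟶ E) (w : i ≫ p = 0)
    (hS : (ShortComplex.mk i p w).ShortExact) [HasExt.{u} X.Modules] :
    ∃ (D : DefoSh.Defo E (Art.dual k k)) (ι : E ⟶ D.sheaf)
      (hι : D.π ≫ ι = D.act (DualNumber.eps : DualNumber k)),
      (shortExact_ι_π D ι hι).extClass = hS.extClass := by
  haveI := hS.epi_g
  let ρ : DualNumber k →ₐ[k] End F :=
    DualNumber.lift ⟨(Algebra.ofId k (End F), p ≫ i),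
      show (p ≫ i) ≫ (p ≫ i) = (0 : F ⟶ F) by rw [Category.assoc, reassoc_of% w, zero_comp, comp_zero],
      fun a => (Algebra.commutes a (show End F from p ≫ i)).symm⟩
  have hε : (ρ DualNumber.eps : F ⟶ F) = p ≫ i := DualNumber.lift_apply_eps _
  have hst : ∀ q : X, ((ShortComplex.mk i p w).map (DerSch.stalkFunctor X q)).ShortExact :=
    (KFlatLib.shortExact_iff_stalk _).1 hS
  have hex : ∀ (q : X) v, RefHull.stalkMapₗ p q v = 0 → ∃ e, RefHull.stalkMapₗ i q e = v := fun q v hv =>
    ((ShortComplex.ShortExact.moduleCat_exact_iff_function_exact _).1 (hst q).exact v).1 hv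
  have hsurj : ∀ (q : X), Function.Surjective (RefHull.stalkMapₗ p q) := fun q =>
    (ModuleCat.epi_iff_surjective _).1 (hst q).epi_g
  refine ⟨{ sheaf := F, act := ρ, π := p, act_π := ?_, surj := hsurj, ker_le := ?_, flat := ?_ }, i, hε.symm,
    rfl⟩
  · intro a ha
    change (ρ (a : DualNumber k) : F ⟶ F) ≫ p = 0
    rw [act_dual ρ, hε, show TrivSqZeroExt.fst (a : DualNumber k) = 0 from ha, zero_smul, zero_add, Category.assoc,
      Category.assoc, Linear.smul_comp, Category.id_comp, Linear.comp_smul, w, smul_zero, comp_zero]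
  · intro q v hv
    letI : Module (Art.dual k k) ↑(F.presheaf.stalk q) :=
      DefoSh.stalkModule (A := Art.dual k k) F ρ.toRingHom q
    obtain ⟨e, rfl⟩ := hex q v hv
    obtain ⟨v', rfl⟩ := hsurj q e
    have : RefHull.stalkMapₗ i q (RefHull.stalkMapₗ p q v') = epsA k • v' := by
      rw [← DefoSh.stalkMapₗ_comp_apply, ← hε]
      rfl
    rw [this]
    exact Submodule.smul_mem_smul ((Art.mem_maximalIdeal_iff _ _).2 rfl) Submodule.mem_top
  · intro q
    letI : Module (Art.dual k k) ↑(F.presheaf.stalk q) :=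
      DefoSh.stalkModule (A := Art.dual k k) F ρ.toRingHom q
    refine flat_of_exact fun v hv => ?_
    have hv' : RefHull.stalkMapₗ i q (RefHull.stalkMapₗ p q v) = 0 := by
      rw [← DefoSh.stalkMapₗ_comp_apply, ← hε]
      exact hv
    have h1 : RefHull.stalkMapₗ p q v = 0 :=
      (ModuleCat.mono_iff_injective _).1 (hst q).mono_f (hv'.trans (map_zero _).symm)
    obtain ⟨e, rfl⟩ := hex q v h1
    obtain ⟨v', rfl⟩ := hsurj q e
    refine ⟨v', ?_⟩
    rw [← DefoSh.stalkMapₗ_comp_apply, ← hε]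
    rfl

/-- First-order deformations are extensions. -/
theorem exists_equiv_ext (k : Type u) [Field k] {X : Scheme.{u}} [X.Over (Spec (CommRingCat.of k))] (E : X.Modules)
    [HasExt.{u} X.Modules] :
    ∃ e : DefoSh.FirstOrder k E ≃ Abelian.Ext E E 1,
      e (DefoSh.Defo.trivDual k E).cl = 0 ∧
      ∀ (D : DefoSh.Defo E (ArtFun.Art.dual k k)) (i : E ⟶ D.sheaf)
        (_ : D.π ≫ i = D.act (DualNumber.eps : DualNumber k))
        (h0 : i ≫ D.π = 0) (hS : (ShortComplex.mk i D.π h0).ShortExact),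
        e D.cl = hS.extClass := by
  choose ι hι using fun D : DefoSh.Defo E (Art.dual k k) => exists_ι D
  have hS := fun D => shortExact_ι_π D (ι D) (hι D)
  have huniq : ∀ (D : DefoSh.Defo E (Art.dual k k)) (i : E ⟶ D.sheaf),
      D.π ≫ i = D.act (DualNumber.eps : DualNumber k) → i = ι D := fun D i hi => by
    haveI := (hS D).epi_g
    rw [← cancel_epi D.π, hi, hι]
  have hwd : ∀ D D', DefoSh.Defo.Iso D D' → (hS D).extClass = (hS D').extClass := by
    intro D D' e
    haveI := (hS D).epi_g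
    have hie : ι D ≫ e.iso.hom = ι D' := by
      rw [← cancel_epi D.π, ← Category.assoc, hι, e.act_hom, ← hι D', ← Category.assoc, e.hom_π]
    let Φ : ShortComplex.mk (ι D) D.π (ι_π D (ι D) (hι D)) ⟶ ShortComplex.mk (ι D') D'.π (ι_π D' (ι D') (hι D')) :=
      ShortComplex.homMk (𝟙 E) e.iso.hom (𝟙 E) ((Category.id_comp _).trans hie.symm)
        (e.hom_π.trans (Category.comp_id _).symm)
    have hn := ShortComplex.ShortExact.extClass_naturality (hS D) (hS D') Φ
    simp only [Φ, ShortComplex.homMk_τ₁, ShortComplex.homMk_τ₃, Abelian.Ext.comp_mk₀_id,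
      Abelian.Ext.mk₀_id_comp] at hn
    exact hn
  let f : DefoSh.FirstOrder k E → Abelian.Ext E E 1 :=
    Quotient.lift (fun D => (hS D).extClass) (fun D D' ⟨e⟩ => hwd D D' e)
  have hf : Function.Bijective f := by
    refine ⟨fun a b => ?_, fun x => ?_⟩
    · refine Quotient.inductionOn₂ a b fun D D' h => Quotient.sound ?_
      obtain ⟨g, hg₁, hg₂⟩ := exists_hom_of_extClass_eq (hS D) (hS D') h
      have hact : ∀ a : Art.dual k k, D.act a ≫ g = g ≫ D'.act a := fun z => by
        let ρ : DualNumber k →ₐ[k] End D.sheaf := D.act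
        let ρ' : DualNumber k →ₐ[k] End D'.sheaf := D'.act
        change (ρ (z : DualNumber k) : D.sheaf ⟶ D.sheaf) ≫ g = g ≫ (ρ' (z : DualNumber k) : D'.sheaf ⟶ D'.sheaf)
        rw [act_dual ρ, act_dual ρ', show (ρ DualNumber.eps : D.sheaf ⟶ D.sheaf) = D.π ≫ ι D from (hι D).symm,
          show (ρ' DualNumber.eps : D'.sheaf ⟶ D'.sheaf) = D'.π ≫ ι D' from (hι D').symm]
        simp only [Preadditive.add_comp, Preadditive.comp_add, Linear.comp_smul, Linear.smul_comp, Category.assoc,
          Category.comp_id, Category.id_comp, hg₁]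
        rw [reassoc_of% hg₂]
      haveI := MiscSh16.isIso_defoHom D D' g hact hg₂
      exact ⟨⟨asIso g, hact, hg₂⟩⟩
    · obtain ⟨F, i, p, w, hT, rfl⟩ := SGA7X.exists_shortExact_extClass_eq x
      obtain ⟨D, i', hi', hcl⟩ := exists_defo (k := k) i p w hT
      refine ⟨D.cl, ?_⟩
      obtain rfl := huniq D i' hi'
      exact hcl
  refine ⟨Equiv.ofBijective f hf, ?_, fun D i hi h0 hT => ?_⟩
  · exact extClass_eq_zero_of_section (hS _) biprod.inl biprod.inl_fst
  · obtain rfl := huniq D i hi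
    rfl

end Groth.Agent.DefoSh76
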