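import Groth.Agent.SheafHomX.Smul
import Groth.Agent.BunLib68.Hom

/-! The internal Hom is the sheaf of stalkwise homomorphisms `RefHull.homSh`. -/

set_option autoImplicit false
set_option linter.style.haveILetI false
set_option backward.isDefEq.respectTransparency false
set_option backward.isDefEq.respectTransparency.types false

universe u

open CategoryTheory CategoryTheory.Limits AlgebraicGeometry TopologicalSpace Opposite

noncomputable section

namespace Groth.Agent.DefoSh76

open Groth.Agent

variable {X : Scheme.{u}} {M N Z : X.Modules}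

/-- Evaluation of `θ : Z ⟶ 𝓗om(M, N)`. -/
def evalBilin (θ : Z ⟶ RefHull.homSh M N) : H23.TensorDesc.Bilin Z M N where
  b U z m := RefX.app (le_refl U) (θ.app U z) m
  add_left U z z' m := ZClosLib.section_ext N _ _ fun y hy => by
    rw [map_add, map_add, RefX.germ_app, RefX.germ_app, RefX.germ_app]
    rfl
  smul_left U r z m := ZClosLib.section_ext N _ _ fun y hy => by
    rw [Scheme.Modules.Hom.app_smul, RefX.germ_app, QCoh.germ_smul', RefX.germ_app, RefX.smul_val]
    rfl
  add_right U z m m' := RefX.app_add _ _ m m'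
  smul_right U r z m := RefX.app_smul _ _ r m
  res {U V} h z m := by
    refine (RefX.res_app (le_refl U) h (θ.app U z) m).trans (ZClosLib.section_ext N _ _ fun y hy => ?_)
    rw [RefX.germ_app, RefX.germ_app]
    have e : AModX.res (RefHull.homSh M N) h (θ.app U z) = θ.app V (AModX.res Z h z) :=
      (ConcreteCategory.congr_hom (θ.mapPresheaf.naturality (homOfLE h).op) z).symm
    refine Eq.trans ?_ (congrArg (fun s : Γ(RefHull.homSh M N, V) => s.1 ⟨y, hy⟩ _) e)
    rfl

/-- `θ ↦` its evaluation `Z ⊗ M ⟶ N`. -/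
def uncurryHom (θ : Z ⟶ RefHull.homSh M N) : (SheafHomX.ten M).obj Z ⟶ N :=
  H23.TensorDesc.desc (evalBilin θ)

theorem uncurryHom_tmul (θ : Z ⟶ RefHull.homSh M N) (U : X.Opens) (z : Γ(Z, U)) (m : Γ(M, U)) :
    (uncurryHom θ).app U (QCoh.tmS Z M z m) = RefX.app (le_refl U) (θ.app U z) m :=
  H23.TensorDesc.desc_tmul (evalBilin θ) U z m

theorem uncurryHom_comp {Z' : X.Modules} (g : Z' ⟶ Z) (θ : Z ⟶ RefHull.homSh M N) :
    uncurryHom (g ≫ θ) = (SheafHomX.ten M).map g ≫ uncurryHom θ := by
  refine SheafHomX.tensor_hom_ext (M := Z') (N := M) fun U z m => ?_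
  refine (uncurryHom_tmul (g ≫ θ) U z m).trans ?_
  refine Eq.trans ?_ (congrArg ((uncurryHom θ).app U) (KFlatLib.tmSh_naturality_left g M (U := U) z m)).symm
  exact (uncurryHom_tmul θ U (g.app U z) m).symm

theorem uncurryHom_bijective : Function.Bijective (uncurryHom (Z := Z) (M := M) (N := N)) := by
  constructor
  · intro θ θ' h
    refine BunLib68.hom_ext_homSh fun U z y => LinearMap.ext fun v => ?_
    obtain ⟨W, hy, m, rfl⟩ := TopCat.Presheaf.exists_germ_eq M.presheaf v
    have hV : U ⊓ W ≤ U := inf_le_left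
    have key : ∀ η : Z ⟶ RefHull.homSh M N, (η.app U z).1 y (M.presheaf.germ W y.1 hy m) =
        N.presheaf.germ (U ⊓ W) y.1 ⟨y.2, hy⟩
          ((uncurryHom η).app (U ⊓ W) (QCoh.tmS Z M (AModX.res Z hV z) (AModX.res M inf_le_right m))) := fun η => by
      rw [uncurryHom_tmul, RefX.germ_app, RefX.germ_res]
      exact congrArg (fun s : Γ(RefHull.homSh M N, U ⊓ W) => s.1 ⟨y.1, y.2, hy⟩ (M.presheaf.germ W y.1 hy m))
        (ConcreteCategory.congr_hom (η.mapPresheaf.naturality (homOfLE hV).op) z).symm
    rw [key, key, h]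
  · intro φ
    let β : H23.TensorDesc.Bilin M Z N :=
      { b := fun U m z => φ.app U (QCoh.tmS Z M z m)
        add_left := fun U m m' z => by rw [QCoh.tmS_add_right, map_add]
        smul_left := fun U r m z =>
          (congrArg (φ.app U) (QCoh.tmS_smul_right Z M r z m)).trans (Scheme.Modules.Hom.app_smul φ r _)
        add_right := fun U m z z' => by rw [QCoh.tmS_add_left, map_add]
        smul_right := fun U r m z =>
          (congrArg (φ.app U) (QCoh.tmS_smul_left Z M r z m)).trans (Scheme.Modules.Hom.app_smul φ r _)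
        res := fun {U V} h m z => by
          refine (ConcreteCategory.congr_hom (φ.mapPresheaf.naturality (homOfLE h).op) _).symm.trans ?_
          exact congrArg (φ.app V) (QCoh.map_tmS Z M (homOfLE h) z m) }
    refine ⟨BunLib68.curry (H23.TensorDesc.desc β), SheafHomX.tensor_hom_ext (M := Z) (N := M) fun U z m => ?_⟩
    refine (uncurryHom_tmul _ U z m).trans ?_
    refine ZClosLib.section_ext N _ _ fun y hy => ?_
    rw [RefX.germ_app]
    change RefHull.stalkMapₗ _ y (BunLib68.stalkPair M Z y (Z.presheaf.germ U y hy z) (M.presheaf.germ U y hy m)) = _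
    rw [BunLib68.stalkPair_germ, RefHull.stalkMapₗ_germ]
    exact congrArg (N.presheaf.germ U y hy) (H23.TensorDesc.desc_tmul β U m z)

/-- Morphisms into `𝓗om(M, N)`. -/
def homShEquiv (M N Z : X.Modules) : (Z ⟶ RefHull.homSh M N) ≃ (Z ⟶ (SheafHomX.hom M).obj N) :=
  (Equiv.ofBijective _ uncurryHom_bijective).trans ((SheafHomX.adj M).homEquiv Z N)

theorem nonempty_homSh_iso (M N : X.Modules) : Nonempty ((SheafHomX.hom M).obj N ≅ RefHull.homSh M N) :=
  ⟨(Yoneda.ext (RefHull.homSh M N) ((SheafHomX.hom M).obj N)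
    (fun {Z} => homShEquiv M N Z) (fun {Z} => (homShEquiv M N Z).symm)
    (fun {Z} => (homShEquiv M N Z).symm_apply_apply) (fun {Z} => (homShEquiv M N Z).apply_symm_apply)
    (fun {Z Z'} f g => by
      show (SheafHomX.adj M).homEquiv Z' N (uncurryHom (f ≫ g)) = f ≫ (SheafHomX.adj M).homEquiv Z N (uncurryHom g)
      rw [uncurryHom_comp, Adjunction.homEquiv_naturality_left])).symm⟩

end Groth.Agent.DefoSh76
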