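import Groth.Agent.DefoSh76.CechOne
import Groth.Agent.DefoSh76.HomShIso
import Groth.Agent.DefoSh76.ExtClass
import Groth.Agent.SiteBase.CechInst
import Groth.Agent.SiteBase.Global
import Groth.Agent.Lib.PnDualSheafHom
import Groth.Agent.RefX.QCoh
import Groth.Agent.QCoh.Bound
import Groth.Agent.QCoh.LocFree
import Groth.Prelude.Def_CohB1
import Groth.Prelude.Def_DefoSh2

/-! First-order deformations of a bundle and `Ȟ¹` of `End E`. -/

set_option autoImplicit false
set_option linter.style.haveILetI false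
set_option backward.isDefEq.respectTransparency false
set_option backward.isDefEq.respectTransparency.types false

universe u

open CategoryTheory CategoryTheory.Limits AlgebraicGeometry TopologicalSpace Opposite

namespace Groth.Agent.DefoSh76

open Groth.Agent

theorem exists_equiv_cech (k : Type u) [Field k] {X : Scheme.{u}} [X.Over (Spec (CommRingCat.of k))]
    (E : X.Modules) (hE : FlatMod.IsFinLocFree E) {ι : Type u} (U : ι → X.Opens) (hU : ∀ i, IsAffineOpen (U i))
    (hcov : ⨆ i, U i = ⊤) :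
    ∃ e : DefoSh.FirstOrder k E ≃ ↑(CohB1.cechH U (RefHull.homSh E E) 1),
      e (DefoSh.Defo.trivDual k E).cl = 0 := by
  haveI : HasExt.{u} X.Modules := IsGrothendieckAbelian.hasExt (SheafOfModules.{u} X.ringCatSheaf)
  obtain ⟨e₁, he₁, -⟩ := exists_equiv_ext k E
  obtain ⟨e₂⟩ := PnDual.nonempty_ext_linearEquiv_HH (A := k) hE E 1
  let M := RefHull.homSh E E
  have hM : Coh.IsQCoh M :=
    RefX.isQCoh_homSh (QCoh.isFP_of_isFinLocFree hE) (QCoh.isQCoh_of_isFinLocFree hE)
  obtain ⟨i₀⟩ := nonempty_homSh_iso E E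
  let e₃ : Coh.HH X ((SheafHomX.hom E).obj E) 1 ≃+ Coh.HH X M 1 :=
    (((Sheaf.functorH _ 1).mapIso ((SheafOfModules.toSheaf X.ringCatSheaf).mapIso i₀)).addCommGroupIsoToAddEquiv)
  obtain ⟨e₄⟩ := CechOne.nonempty_cech_one_addEquiv_HU (J := Opens.grothendieckTopology X.toPresheafedSpace.carrier)
    (SiteBase.ctxOpens U) (SiteBase.ctxOpens_sieve_mem U) (SiteBase.injAcyclic_opens U)
    (QCoh.abSheaf M) (fun i => by
      refine QCoh.subsingleton_HU_of_isAffineOpen hM (V := (𝟭 _).obj (∏ᶜ fun k => U (i k))) ?_ 0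
      change IsAffineOpen (∏ᶜ fun k => U (i k))
      rw [show (∏ᶜ fun k => U (i k)) = U (i 0) from
        (SiteBase.piObj_eq_iInf U i).trans (le_antisymm (iInf_le _ 0)
          (le_iInf fun k => by rw [Subsingleton.elim k 0]))]
      exact hU _)
  let e₅ : CohTop.HU (X := X.toPresheafedSpace.carrier) (QCoh.abSheaf M) 1 (iSup U) ≃+ Coh.HH X M 1 :=
    SiteBase.huTerminalEquiv (hcov ▸ isTerminalTop) (QCoh.abSheaf M) 1
  refine ⟨e₁.trans ((e₂.toAddEquiv.trans e₃).trans (e₄.trans e₅).symm).toEquiv, ?_⟩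
  change ((e₂.toAddEquiv.trans e₃).trans (e₄.trans e₅).symm) (e₁ _) = 0
  rw [he₁, map_zero]

end Groth.Agent.DefoSh76
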