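import Groth.Agent.SiteBase.CechCmp

/-! Čech cohomology of degree one, for a family on whose members `H¹` vanishes. -/

set_option autoImplicit false
set_option linter.style.haveILetI false
universe u

open CategoryTheory CategoryTheory.Limits Opposite Abelian

namespace Groth.Agent.DefoSh76.CechOne

open Groth.Agent.SiteBase

theorem homologyMap_zero_bijective {K L : CochainComplex AddCommGrpCat.{u} ℕ} (ψ : K ⟶ L)
    (h₀ : Function.Bijective (ψ.f 0).hom) (h₁ : Function.Injective (ψ.f 1).hom) :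
    Function.Bijective (HomologicalComplex.homologyMap ψ 0).hom := by
  have : IsIso (K.homologyπ 0) := K.isIso_homologyπ _ 0 rfl (by simp)
  have : IsIso (L.homologyπ 0) := L.isIso_homologyπ _ 0 rfl (by simp)
  suffices h : Function.Bijective (HomologicalComplex.cyclesMap ψ 0).hom by
    have e : HomologicalComplex.homologyMap ψ 0 =
        inv (K.homologyπ 0) ≫ HomologicalComplex.cyclesMap ψ 0 ≫ L.homologyπ 0 := by
      rw [← HomologicalComplex.homologyπ_naturality, IsIso.inv_hom_id_assoc]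
    rw [e]
    exact ((ConcreteCategory.bijective_of_isIso (L.homologyπ 0)).comp
      (h.comp (ConcreteCategory.bijective_of_isIso (inv (K.homologyπ 0)))))
  have hnat : ∀ z, (L.iCycles 0).hom ((HomologicalComplex.cyclesMap ψ 0).hom z) = (ψ.f 0).hom ((K.iCycles 0).hom z) :=
    fun z => ConcreteCategory.congr_hom (HomologicalComplex.cyclesMap_i ψ 0) z
  have hiK : Function.Injective (K.iCycles 0).hom :=
    (AddCommGrpCat.mono_iff_injective (K.iCycles 0)).1 inferInstance
  have hiL : Function.Injective (L.iCycles 0).hom :=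
    (AddCommGrpCat.mono_iff_injective (L.iCycles 0)).1 inferInstance
  refine ⟨fun a b hab => hiK (h₀.1 ?_), fun z => ?_⟩
  · rw [← hnat, ← hnat, hab]
  · obtain ⟨x, hx⟩ := h₀.2 ((L.iCycles 0).hom z)
    have hd : (K.d 0 1).hom x = 0 := h₁ (by
      rw [map_zero]
      refine (ConcreteCategory.congr_hom (ψ.comm 0 1) x).symm.trans ?_
      change (L.d 0 1).hom ((ψ.f 0).hom x) = 0
      rw [hx]
      exact ConcreteCategory.congr_hom (L.iCycles_d 0 1) z)
    let φ : AddCommGrpCat.of (ULift.{u} ℤ) ⟶ K.X 0 := AddCommGrpCat.ofHom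
      (AddMonoidHom.mk' (fun n => n.down • x) fun a b => add_zsmul x a.down b.down)
    have hφ : φ ≫ K.d 0 1 = 0 := AddCommGrpCat.hom_ext (AddMonoidHom.ext fun n => by
      change (K.d 0 1).hom (n.down • x) = 0
      rw [map_zsmul, hd, smul_zero])
    refine ⟨(K.liftCycles φ 1 (by simp) hφ).hom ⟨1⟩, hiL ?_⟩
    rw [hnat, show (K.iCycles 0).hom ((K.liftCycles φ 1 (by simp) hφ).hom ⟨1⟩) = x from
      (ConcreteCategory.congr_hom (K.liftCycles_i φ 1 (by simp) hφ) ⟨1⟩).trans (one_zsmul x), hx]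

variable {C : Type u} [SmallCategory C] {J : GrothendieckTopology C}
variable {D : Type u} [SmallCategory D] [HasFiniteProducts D]
  {Φ : D ⥤ C} {U : C} {ι : Type u} {Y : ι → D}

theorem cech_one_addEquiv' (c : CechCtx Φ U Y) (hc : c.sieve ∈ J U) (hinj : InjAcyclic J Φ Y)
    {E : ShortComplex (Sheaf J AddCommGrpCat.{u})} (hE : E.ShortExact) (hI : Injective E.X₂)
    (h : ∀ i : Fin 1 → ι, Function.Surjective (E.g.hom.app (op (Φ.obj (∏ᶜ fun k => Y (i k))))).hom) :
    Nonempty ((cechCx Φ Y E.X₁).homology 1 ≃+ EH E.X₁ 1 U) := by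
  let S := cechSES Φ Y E
  have hfinj : ∀ n, Function.Injective (S.f.f n).hom := fun n a b hab => cev_ext Y _ fun i =>
    sections_f_injective hE _ (by
      have := congrArg (cev Y (Φ.op ⋙ E.X₂.obj) n i) hab
      exact ((cev_map Y _ _ n i a).symm.trans this).trans (cev_map Y _ _ n i b))
  haveI : ∀ n, Mono (S.f.f n) := fun n => (AddCommGrpCat.mono_iff_injective _).2 (hfinj n)
  haveI : Mono S.f := HomologicalComplex.mono_of_mono_f _ inferInstance
  let T : ShortComplex (CochainComplex AddCommGrpCat.{u} ℕ) :=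
    ShortComplex.mk S.f (cokernel.π S.f) (cokernel.condition _)
  have hT : T.ShortExact :=
    { exact := ShortComplex.exact_cokernel S.f
      mono_f := inferInstanceAs (Mono S.f)
      epi_g := inferInstanceAs (Epi (cokernel.π S.f)) }
  let ψ : T.X₃ ⟶ S.X₃ := cokernel.desc S.f S.g S.zero
  have hψ : T.g ≫ ψ = S.g := cokernel.π_desc _ _ _
  have hTn : ∀ n, (T.map (HomologicalComplex.eval AddCommGrpCat.{u} (ComplexShape.up ℕ) n)).ShortExact :=
    fun n => hT.map_of_exact _
  have hgψ : ∀ n (z : S.X₂.X n), (ψ.f n).hom ((T.g.f n).hom z) = (S.g.f n).hom z := fun n z =>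
    ConcreteCategory.congr_hom (congrArg (fun φ => φ.f n) hψ) z
  have hsurjT : ∀ n, Function.Surjective (T.g.f n).hom := fun n =>
    (AddCommGrpCat.epi_iff_surjective _).1 (hTn n).epi_g
  have hinjψ : ∀ n, Function.Injective (ψ.f n).hom := fun n => (injective_iff_map_eq_zero _).2 fun z hz => by
    obtain ⟨x, rfl⟩ := hsurjT n z
    rw [hgψ] at hz
    choose t ht using fun i => sections_exact hE _ (cev Y (Φ.op ⋙ E.X₂.obj) n i x) (by
      have := congrArg (cev Y (Φ.op ⋙ E.X₃.obj) n i) hz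
      exact (cev_map Y _ _ n i x).symm.trans (this.trans (map_zero _)))
    obtain ⟨y, hy⟩ := exists_cev Y (Φ.op ⋙ E.X₁.obj) t
    have : (S.f.f n).hom y = x :=
      cev_ext Y _ fun i => (cev_map Y _ _ n i y).trans ((congrArg _ (hy i)).trans (ht i))
    rw [← this]
    exact ConcreteCategory.congr_hom (congrArg (fun φ => φ.f n) T.zero) y
  have hsurjψ : Function.Surjective (ψ.f 0).hom := fun z => by
    choose t ht using fun i => h i (cev Y (Φ.op ⋙ E.X₃.obj) 0 i z)
    obtain ⟨x, hx⟩ := exists_cev Y (Φ.op ⋙ E.X₂.obj) t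
    exact ⟨(T.g.f 0).hom x, (hgψ 0 x).trans
      (cev_ext Y _ fun i => (cev_map Y _ _ 0 i x).trans ((congrArg _ (hx i)).trans (ht i)))⟩
  have hH : Function.Bijective (HomologicalComplex.homologyMap ψ 0).hom :=
    homologyMap_zero_bijective ψ ⟨hinjψ 0, hsurjψ⟩ (hinjψ 1)
  let e := AddEquiv.ofBijective (HomologicalComplex.homologyMap ψ 0).hom hH
  have hepi : Function.Surjective (hT.δ 0 1 rfl).hom :=
    (AddCommGrpCat.epi_iff_surjective _).1 ((hT.homology_exact₁ 0 1 rfl).epi_f
      (((HomologicalComplex.exactAt_iff_isZero_homology _ _).1 (hinj E.X₂ hI 0)).eq_of_tgt _ _))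
  let a : E.X₃.obj.obj (op U) →+ (cechCx Φ Y E.X₁).homology 1 :=
    (hT.δ 0 1 rfl).hom.comp (e.symm.toAddMonoidHom.comp (toH0 c E.X₃))
  refine nonempty_addEquiv_of_surjective' a (secδ hE U)
    (hepi.comp (e.symm.surjective.comp (toH0_bijective c E.X₃ hc).2))
    (secδ_surjective hE U (subsingleton_EH_of_injective E.X₂ U 0)) fun x => ?_
  refine Iff.trans ?_ (secδ_eq_zero_iff hE U x).symm
  have hnat : ∀ w, e ((HomologicalComplex.homologyMap T.g 0).hom w) =
      (HomologicalComplex.homologyMap S.g 0).hom w := fun w => by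
    have := ConcreteCategory.congr_hom
      ((HomologicalComplex.homologyMap_comp T.g ψ 0).symm.trans
        (congrArg (fun φ => HomologicalComplex.homologyMap φ 0) hψ)) w
    exact this
  change (hT.δ 0 1 rfl).hom (e.symm (toH0 c E.X₃ x)) = 0 ↔ _
  constructor
  · intro hx
    obtain ⟨w, hw⟩ := (ShortComplex.ab_exact_iff _).1 (hT.homology_exact₃ 0 1 rfl) _ hx
    obtain ⟨t, rfl⟩ := (toH0_bijective c E.X₂ hc).2 w
    refine ⟨t, (toH0_bijective c E.X₃ hc).1 ?_⟩
    rw [← toH0_natural c E.g t, ← e.apply_symm_apply (toH0 c E.X₃ x)]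
    exact (hnat _).symm.trans (congrArg e hw)
  · rintro ⟨t, rfl⟩
    have : e.symm (toH0 c E.X₃ ((E.g.hom.app (op U)).hom t)) =
        (HomologicalComplex.homologyMap T.g 0).hom (toH0 c E.X₂ t) := by
      refine e.symm_apply_eq.2 ?_
      exact (toH0_natural c E.g t).symm.trans (hnat _).symm
    rw [this]
    exact ConcreteCategory.congr_hom (hT.comp_δ 0 1 rfl) _

/-- `Ȟ¹ ≅ H¹` as soon as `H¹` vanishes on the members of the family. -/
theorem nonempty_cech_one_addEquiv_HU (c : CechCtx Φ U Y) (hc : c.sieve ∈ J U) (hinj : InjAcyclic J Φ Y)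
    (F : Sheaf J AddCommGrpCat.{u})
    (h : ∀ i : Fin 1 → ι, Subsingleton (CohSite.HU F 1 (Φ.obj (∏ᶜ fun k => Y (i k))))) :
    Nonempty ((cechCx Φ Y F).homology 1 ≃+ CohSite.HU F 1 U) := by
  suffices H : ∀ E : ShortComplex (Sheaf J AddCommGrpCat.{u}), E.ShortExact → Injective E.X₂ →
      E.X₁ = F → Nonempty ((cechCx Φ Y F).homology 1 ≃+ EH F 1 U) from
    (H (injectiveSES F) (injectiveSES_shortExact F) inferInstance (injectiveSES_X₁ F)).map
      fun e => e.trans (huEquiv F 1 U).symm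
  rintro E hE hI rfl
  exact cech_one_addEquiv' c hc hinj hE hI fun i =>
    surjective_sections_of_HU_one hE _ (h i)

end Groth.Agent.DefoSh76.CechOne
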