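import Groth.Prelude.Def_DefoSh2
import Groth.Prelude.Def_DefoConn
import Groth.Prelude.Def_DDual2
import Groth.Agent.DEqLib.Sib.LinTensor

/-! The trivial deformation of a connection. -/

set_option autoImplicit false
set_option backward.isDefEq.respectTransparency false
set_option backward.isDefEq.respectTransparency.types false
universe u

open CategoryTheory CategoryTheory.Limits AlgebraicGeometry Opposite

namespace Groth.Agent.DefoSh76

variable {X S : Scheme.{u}} {Ω' : X.Modules}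

theorem tensorMap_add {M N : X.Modules} (φ ψ : M ⟶ N) :
    KoszTw.tensorMap (φ + ψ) (𝟙 Ω') = KoszTw.tensorMap φ (𝟙 Ω') + KoszTw.tensorMap ψ (𝟙 Ω') := by
  simp only [← KoszTw.tensorRightMod_map, Functor.map_add]

theorem isHorizontal_add {M N : X.Modules} {c : Coh.toAb M ⟶ Coh.toAb (CohB1.tensorMod M Ω')}
    {c' : Coh.toAb N ⟶ Coh.toAb (CohB1.tensorMod N Ω')} {φ ψ : M ⟶ N} (hφ : ConnSh.IsHorizontal c c' φ)
    (hψ : ConnSh.IsHorizontal c c' ψ) : ConnSh.IsHorizontal c c' (φ + ψ) := by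
  intro U e
  rw [Scheme.Modules.Hom.add_app, tensorMap_add, Scheme.Modules.Hom.add_app]
  change ConnSh.secApp c' U (φ.app U e + ψ.app U e) = _
  refine (map_add (ConnSh.secApp c' U) _ _).trans ?_
  rw [hφ, hψ]
  rfl

variable {k : Type u} [Field k] [X.Over (Spec (CommRingCat.of k))]
  (δ : OmegaSh.Der (X ↘ Spec (CommRingCat.of k)) Ω') {E : X.Modules}
  (nabla : Coh.toAb E ⟶ Coh.toAb (CohB1.tensorMod E Ω'))

theorem der_const (U : X.Opens) (a : k) :
    δ.app U (X.presheaf.map (homOfLE (le_top : U ≤ ⊤)).op (Coh.toGlobal (X ↘ Spec (CommRingCat.of k)) a)) = 0 := by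
  rw [OmegaSh.Der.app_apply]
  refine (δ.d_map (X := op (⊤ : X.Opens)) (Y := op U) (homOfLE (le_top : U ≤ ⊤)).op _).trans ?_
  have h : δ.d (X := op (⊤ : X.Opens)) (Coh.toGlobal (X ↘ Spec (CommRingCat.of k)) a) = 0 :=
    δ.d_app (X := op (⊤ : (Spec (CommRingCat.of k)).Opens)) _
  rw [h]
  exact map_zero _

/-- Scalars of the base field are horizontal. -/
theorem isHorizontal_smul_id (hn : ConnSh.IsConn δ E nabla) (a : k) :
    ConnSh.IsHorizontal nabla nabla (a • 𝟙 E) := by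
  intro U e
  rw [← KoszTw.tensorBi_map_app, DEqLib.Sib.LinTensor.tensorBi_map_smul_id]
  refine (congrArg (ConnSh.secApp nabla U) (KLin.smul_app_apply a (𝟙 E) U e)).trans
    (((hn U _ e).trans ?_).trans (KLin.smul_app_apply a (𝟙 ((DCoh.tensorBi.obj E).obj Ω')) U _).symm)
  rw [der_const δ U a]
  refine add_eq_left.2 ?_
  unfold SecTwist.tmul
  erw [TensorProduct.tmul_zero]
  exact map_zero _

/-- The connection `∇ ⊕ ∇` on `E ⊞ E`. -/
noncomputable def sumConn : Coh.toAb (E ⊞ E) ⟶ Coh.toAb (CohB1.tensorMod (E ⊞ E) Ω') :=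
  (SheafOfModules.toSheaf X.ringCatSheaf).map biprod.fst ≫ nabla ≫
      (SheafOfModules.toSheaf X.ringCatSheaf).map (KoszTw.tensorMap biprod.inl (𝟙 Ω')) +
    (SheafOfModules.toSheaf X.ringCatSheaf).map biprod.snd ≫ nabla ≫
      (SheafOfModules.toSheaf X.ringCatSheaf).map (KoszTw.tensorMap biprod.inr (𝟙 Ω'))

theorem secApp_sumConn (U : X.Opens) (s : (E ⊞ E).val.obj (op U)) :
    ConnSh.secApp (sumConn nabla) U s =
      (KoszTw.tensorMap (biprod.inl : E ⟶ E ⊞ E) (𝟙 Ω')).app U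
          (ConnSh.secApp nabla U ((biprod.fst : E ⊞ E ⟶ E).app U s)) +
        (KoszTw.tensorMap (biprod.inr : E ⟶ E ⊞ E) (𝟙 Ω')).app U
          (ConnSh.secApp nabla U ((biprod.snd : E ⊞ E ⟶ E).app U s)) := rfl

theorem total_app (U : X.Opens) (s : (E ⊞ E).val.obj (op U)) :
    (biprod.inl : E ⟶ E ⊞ E).app U ((biprod.fst : E ⊞ E ⟶ E).app U s) +
      (biprod.inr : E ⟶ E ⊞ E).app U ((biprod.snd : E ⊞ E ⟶ E).app U s) = s :=
  DFunLike.congr_fun (congrArg (fun f : (E ⊞ E) ⟶ (E ⊞ E) => (f.app U).hom) biprod.total) s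

theorem tmul_add_left (M N : X.Modules) (U : X.Opens) (m m' : M.val.obj (op U)) (n : N.val.obj (op U)) :
    SecTwist.tmul M N U (m + m') n = SecTwist.tmul M N U m n + SecTwist.tmul M N U m' n := by
  unfold SecTwist.tmul
  erw [TensorProduct.add_tmul]
  exact map_add _ _ _

/-- A map out of `E ⊞ E` is horizontal when its two restrictions are. -/
theorem isHorizontal_sumConn {N : X.Modules} {c : Coh.toAb N ⟶ Coh.toAb (CohB1.tensorMod N Ω')}
    {φ : E ⊞ E ⟶ N} (hl : ConnSh.IsHorizontal nabla c (biprod.inl ≫ φ))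
    (hr : ConnSh.IsHorizontal nabla c (biprod.inr ≫ φ)) : ConnSh.IsHorizontal (sumConn nabla) c φ := by
  intro U s
  rw [secApp_sumConn]
  conv_lhs => rw [← total_app U s]
  refine ((congrArg (ConnSh.secApp c U) (map_add (φ.app U).hom _ _)).trans
    (map_add (ConnSh.secApp c U) _ _)).trans (Eq.trans ?_ (map_add _ _ _).symm)
  have e1 := fun (ι : E ⟶ E ⊞ E) => KoszTw.tensorMap_comp ι φ (𝟙 Ω') (𝟙 Ω')
  simp only [Category.id_comp] at e1
  refine congrArg₂ (· + ·) ?_ ?_
  · refine (hl U _).trans ?_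
    rw [e1]
    rfl
  · refine (hr U _).trans ?_
    rw [e1]
    rfl

theorem isHorizontal_inl : ConnSh.IsHorizontal nabla (sumConn nabla) (biprod.inl : E ⟶ E ⊞ E) := by
  intro U e
  rw [secApp_sumConn]
  have h1 : (biprod.fst : E ⊞ E ⟶ E).app U ((biprod.inl : E ⟶ E ⊞ E).app U e) = e :=
    DFunLike.congr_fun (congrArg (fun f : E ⟶ E => (f.app U).hom) biprod.inl_fst) e
  have h2 : (biprod.snd : E ⊞ E ⟶ E).app U ((biprod.inl : E ⟶ E ⊞ E).app U e) = 0 :=
    DFunLike.congr_fun (congrArg (fun f : E ⟶ E => (f.app U).hom) biprod.inl_snd) e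
  refine add_eq_left.2 ?_ |>.trans (by rw [h1])
  rw [h2, map_zero]
  exact map_zero _

theorem isHorizontal_inr : ConnSh.IsHorizontal nabla (sumConn nabla) (biprod.inr : E ⟶ E ⊞ E) := by
  intro U e
  rw [secApp_sumConn]
  have h1 : (biprod.snd : E ⊞ E ⟶ E).app U ((biprod.inr : E ⟶ E ⊞ E).app U e) = e :=
    DFunLike.congr_fun (congrArg (fun f : E ⟶ E => (f.app U).hom) biprod.inr_snd) e
  have h2 : (biprod.fst : E ⊞ E ⟶ E).app U ((biprod.inr : E ⟶ E ⊞ E).app U e) = 0 :=
    DFunLike.congr_fun (congrArg (fun f : E ⟶ E => (f.app U).hom) biprod.inr_fst) e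
  refine add_eq_right.2 ?_ |>.trans (by rw [h1])
  rw [h2, map_zero]
  exact map_zero _

theorem isConn_sumConn (hn : ConnSh.IsConn δ E nabla) : ConnSh.IsConn δ (E ⊞ E) (sumConn nabla) := by
  intro U t s
  rw [secApp_sumConn, secApp_sumConn]
  have key : ∀ (π : E ⊞ E ⟶ E) (ι : E ⟶ E ⊞ E),
      (KoszTw.tensorMap ι (𝟙 Ω')).app U (ConnSh.secApp nabla U (π.app U (t • s))) =
        (HSMul.hSMul t (show (CohB1.tensorMod (E ⊞ E) Ω').val.obj (op U) from
            (KoszTw.tensorMap ι (𝟙 Ω')).app U (ConnSh.secApp nabla U (π.app U s))) :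
          (CohB1.tensorMod (E ⊞ E) Ω').val.obj (op U)) +
          SecTwist.tmul (E ⊞ E) Ω' U (ι.app U (π.app U s)) (δ.app U t) := by
    intro π ι
    refine (congrArg ((KoszTw.tensorMap ι (𝟙 Ω')).app U)
      ((congrArg (ConnSh.secApp nabla U) (Scheme.Modules.Hom.app_smul π t s)).trans (hn U t _))).trans ?_
    refine (map_add _ _ _).trans (congrArg₂ (· + ·) (Scheme.Modules.Hom.app_smul _ t _) ?_)
    exact (KoszTw.tensorMap_tmul ι (𝟙 Ω') U _ _).trans rfl
  rw [key, key, smul_add, add_add_add_comm]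
  congr 1
  rw [← tmul_add_left]
  exact congrArg (fun z => SecTwist.tmul (E ⊞ E) Ω' U z (δ.app U t)) (total_app U s)

theorem π_aux : ConnSh.IsHorizontal (sumConn nabla) nabla (biprod.fst : E ⊞ E ⟶ E) := by
  refine isHorizontal_sumConn nabla ?_ ?_
  · rw [biprod.inl_fst]; exact DefoSh.isHorizontal_id nabla
  · rw [biprod.inr_fst]
    intro U e
    have : KoszTw.tensorMap (0 : E ⟶ E) (𝟙 Ω') = 0 := by rw [← KoszTw.tensorRightMod_map, Functor.map_zero]
    rw [this]
    exact map_zero (ConnSh.secApp nabla U)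

/-- The trivial deformation of a connection over the trivial deformation of the module. -/
noncomputable def trivConn (hn : ConnSh.IsConn δ E nabla) :
    DefoSh.DefoConn δ nabla (DefoSh.Defo.trivDual k E) where
  conn := sumConn nabla
  isConn := isConn_sumConn δ nabla hn
  act_horizontal z := by
    change ConnSh.IsHorizontal (sumConn nabla) (sumConn nabla) (DefoSh.dualAct k E z : E ⊞ E ⟶ E ⊞ E)
    rw [DefoSh.dualAct_hom]
    have hid : ∀ a : k, ConnSh.IsHorizontal (sumConn nabla) (sumConn nabla) (a • 𝟙 (E ⊞ E)) :=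
      fun a => isHorizontal_smul_id δ _ (isConn_sumConn δ nabla hn) a
    refine isHorizontal_add (hid _) ?_
    rw [show z.snd • ((biprod.fst : E ⊞ E ⟶ E) ≫ biprod.inr) =
      (biprod.fst ≫ biprod.inr) ≫ (z.snd • 𝟙 (E ⊞ E)) by rw [Linear.comp_smul, Category.comp_id]]
    refine DefoSh.isHorizontal_comp (DefoSh.isHorizontal_comp ?_ (isHorizontal_inr nabla)) (hid _)
    exact π_aux nabla
  π_horizontal := π_aux nabla

end Groth.Agent.DefoSh76
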