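import Groth.Agent.DefoSh76.DualSES
import Groth.Agent.DefoSh76.TrivConn
import Groth.Agent.MiscSh16.DefoIso

/-! Deformations of a connection over a fixed first-order deformation of the module. -/

set_option autoImplicit false
set_option linter.style.haveILetI false
set_option backward.isDefEq.respectTransparency false
set_option backward.isDefEq.respectTransparency.types false

universe u

open CategoryTheory CategoryTheory.Limits AlgebraicGeometry Opposite ArtFun

namespace Groth.Agent.DefoSh76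

variable {X : Scheme.{u}}

local notation "T" => SheafOfModules.toSheaf X.ringCatSheaf

variable {Ω' : X.Modules}

theorem isHorizontal_iff {M N : X.Modules} (c : Coh.toAb M ⟶ Coh.toAb (CohB1.tensorMod M Ω'))
    (c' : Coh.toAb N ⟶ Coh.toAb (CohB1.tensorMod N Ω')) (φ : M ⟶ N) :
    ConnSh.IsHorizontal c c' φ ↔ (T).map φ ≫ c' = c ≫ (T).map (KoszTw.tensorMap φ (𝟙 Ω')) := by
  constructor
  · intro h
    refine Sheaf.hom_ext (NatTrans.ext (funext fun U => AddCommGrpCat.hom_ext (AddMonoidHom.ext fun e => ?_)))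
    exact h U.unop e
  · intro h U e
    exact DFunLike.congr_fun (congrArg (fun f : Coh.toAb M ⟶ Coh.toAb (CohB1.tensorMod N Ω') => (f.hom.app (op U)).hom) h) e

theorem exists_hom_of_linear {M N : X.Modules} (f : Coh.toAb M ⟶ Coh.toAb N)
    (h : ∀ (U : X.Opens) (t : Γ(X, U)) (e : M.val.obj (op U)),
      ConnSh.secApp f U (t • e) = t • ConnSh.secApp f U e) :
    ∃ φ : M ⟶ N, (T).map φ = f :=
  ⟨⟨PresheafOfModules.homMk f.hom fun U t e => h U.unop t e⟩, rfl⟩

variable {k : Type u} [Field k] [X.Over (Spec (CommRingCat.of k))]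
  {δ : OmegaSh.Der (X ↘ Spec (CommRingCat.of k)) Ω'} {E : X.Modules}
  {nabla : Coh.toAb E ⟶ Coh.toAb (CohB1.tensorMod E Ω')}

theorem isConn_add {M : X.Modules} {c : Coh.toAb M ⟶ Coh.toAb (CohB1.tensorMod M Ω')}
    (hc : ConnSh.IsConn δ M c) (ψ : M ⟶ CohB1.tensorMod M Ω') : ConnSh.IsConn δ M (c + (T).map ψ) := by
  intro U t e
  change ConnSh.secApp c U (t • e) + (show (CohB1.tensorMod M Ω').val.obj (op U) from ψ.app U (t • e)) = _
  rw [hc U t e, Scheme.Modules.Hom.app_smul]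
  change _ = t • (ConnSh.secApp c U e + (show (CohB1.tensorMod M Ω').val.obj (op U) from ψ.app U e)) + _
  rw [smul_add]
  abel

variable (D : DefoSh.Defo E (Art.dual k k)) (ι : E ⟶ D.sheaf)
  (hι : D.π ≫ ι = D.act (DualNumber.eps : DualNumber k))

theorem act_horizontal_of_eps {c : Coh.toAb D.sheaf ⟶ Coh.toAb (CohB1.tensorMod D.sheaf Ω')}
    (hc : ConnSh.IsConn δ D.sheaf c) (h : ConnSh.IsHorizontal c c (D.act (epsA k))) (z : Art.dual k k) :
    ConnSh.IsHorizontal c c (D.act z) := by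
  let ρ : DualNumber k →ₐ[k] End D.sheaf := D.act
  change ConnSh.IsHorizontal c c (ρ (z : DualNumber k) : D.sheaf ⟶ D.sheaf)
  rw [act_dual ρ z]
  exact isHorizontal_add (isHorizontal_smul_id δ c hc _)
    (DefoSh.isHorizontal_comp h (isHorizontal_smul_id δ c hc _))

include hι

theorem tensor_ι_π : KoszTw.tensorMap ι (𝟙 Ω') ≫ KoszTw.tensorMap D.π (𝟙 Ω') = 0 := by
  rw [← KoszTw.tensorMap_comp, ι_π D ι hι, Category.comp_id, ← KoszTw.tensorRightMod_map, Functor.map_zero]

theorem epi_T_π : Epi ((T).map D.π) := by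
  haveI := (shortExact_ι_π D ι hι).epi_g
  infer_instance

theorem ι_horizontal (c : DefoSh.DefoConn δ nabla D) : ConnSh.IsHorizontal nabla c.conn ι := by
  haveI := epi_T_π D ι hι
  rw [isHorizontal_iff, ← cancel_epi ((T).map D.π), ← Category.assoc, ← Functor.map_comp, hι]
  have h1 := (isHorizontal_iff _ _ _).1 (c.act_horizontal (epsA k))
  have h2 := (isHorizontal_iff _ _ _).1 c.π_horizontal
  rw [reassoc_of% h2, ← Functor.map_comp, ← KoszTw.tensorMap_comp, hι, Category.comp_id]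
  exact h1

/-- `c₀ + π ≫ φ ≫ (ι ⊗ 1)` as a deformation of the connection. -/
noncomputable def addHom (c₀ : DefoSh.DefoConn δ nabla D) (φ : E ⟶ CohB1.tensorMod E Ω') :
    DefoSh.DefoConn δ nabla D where
  conn := c₀.conn + (T).map (D.π ≫ φ ≫ KoszTw.tensorMap ι (𝟙 Ω'))
  isConn := isConn_add c₀.isConn _
  act_horizontal z := by
    refine act_horizontal_of_eps D (isConn_add c₀.isConn _) ?_ z
    rw [isHorizontal_iff, Preadditive.comp_add, Preadditive.add_comp,
      (isHorizontal_iff _ _ _).1 (c₀.act_horizontal (epsA k)), ← Functor.map_comp, ← Functor.map_comp]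
    congr 2
    have h1 : D.act (epsA k) ≫ D.π = 0 := D.act_π (epsA k) rfl
    have h2 : KoszTw.tensorMap ι (𝟙 Ω') ≫ KoszTw.tensorMap (D.act (epsA k)) (𝟙 Ω') = 0 := by
      rw [← KoszTw.tensorMap_comp, show D.act (epsA k) = D.π ≫ ι from hι.symm, ← Category.assoc,
        ι_π D ι hι, zero_comp, Category.comp_id, ← KoszTw.tensorRightMod_map, Functor.map_zero]
    rw [← Category.assoc, h1, zero_comp, Category.assoc, Category.assoc, h2, comp_zero, comp_zero]
  π_horizontal := by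
    rw [isHorizontal_iff, Preadditive.add_comp, (isHorizontal_iff _ _ _).1 c₀.π_horizontal, ← Functor.map_comp,
      Category.assoc, Category.assoc, tensor_ι_π D ι hι, comp_zero, comp_zero, Functor.map_zero, add_zero]

/-- The difference of two deformations of the connection. -/
theorem exists_diff (hE : FlatMod.IsFinLocFree E) (c₀ c : DefoSh.DefoConn δ nabla D) :
    ∃ φ : E ⟶ CohB1.tensorMod E Ω', c.conn - c₀.conn = (T).map (D.π ≫ φ ≫ KoszTw.tensorMap ι (𝟙 Ω')) := by
  obtain ⟨ψ, hψ⟩ := exists_hom_of_linear (c.conn - c₀.conn) (fun U t e => by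
    change ConnSh.secApp c.conn U (t • e) - ConnSh.secApp c₀.conn U (t • e) = _
    rw [c.isConn U t e, c₀.isConn U t e, add_sub_add_right_eq_sub, ← smul_sub]
    rfl)
  have hS := shortExact_ι_π D ι hι
  have hT := shortExact_tensor D ι hι hE Ω' (tensor_ι_π D ι hι)
  haveI := hS.epi_g
  haveI := hS.mono_f
  haveI := hT.mono_f
  have hπ : ψ ≫ KoszTw.tensorMap D.π (𝟙 Ω') = 0 := by
    apply (T).map_injective
    rw [Functor.map_comp, hψ, Functor.map_zero, Preadditive.sub_comp,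
      ← (isHorizontal_iff _ _ _).1 c.π_horizontal, ← (isHorizontal_iff _ _ _).1 c₀.π_horizontal, sub_self]
  obtain ⟨g, hg⟩ : ∃ g : D.sheaf ⟶ CohB1.tensorMod E Ω', g ≫ KoszTw.tensorMap ι (𝟙 Ω') = ψ :=
    ⟨hT.exact.lift ψ hπ, hT.exact.lift_f _ _⟩
  have hεψ : D.act (epsA k) ≫ ψ = 0 := by
    apply (T).map_injective
    rw [Functor.map_comp, hψ, Functor.map_zero, Preadditive.comp_sub,
      (isHorizontal_iff _ _ _).1 (c.act_horizontal (epsA k)),
      (isHorizontal_iff _ _ _).1 (c₀.act_horizontal (epsA k)), ← Preadditive.sub_comp, ← hψ, ← Functor.map_comp,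
      ← hg, Category.assoc, ← KoszTw.tensorMap_comp, show D.act (epsA k) = D.π ≫ ι from hι.symm, ← Category.assoc,
      ι_π D ι hι, zero_comp, Category.comp_id, ← KoszTw.tensorRightMod_map, Functor.map_zero, comp_zero,
      Functor.map_zero]
  have hιg : ι ≫ g = 0 := by
    rw [← cancel_epi D.π, comp_zero, ← cancel_mono (KoszTw.tensorMap ι (𝟙 Ω')), zero_comp, Category.assoc,
      Category.assoc, hg, ← Category.assoc, hι]
    exact hεψ
  obtain ⟨φ, hφ⟩ : ∃ φ : E ⟶ CohB1.tensorMod E Ω', D.π ≫ φ = g := ⟨hS.exact.desc g hιg, hS.exact.g_desc _ _⟩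
  exact ⟨φ, by rw [← Category.assoc, hφ, hg, hψ]⟩

/-- Deformations of a connection form a torsor under `Hom(E, E ⊗ Ω')`. -/
theorem exists_equiv (hE : FlatMod.IsFinLocFree E) (c₀ : DefoSh.DefoConn δ nabla D) :
    ∃ Φ : DefoSh.DefoConn δ nabla D ≃ (E ⟶ CohB1.tensorMod E Ω'),
      ∀ c : DefoSh.DefoConn δ nabla D,
        c.conn - c₀.conn = (T).map (D.π ≫ Φ c ≫ KoszTw.tensorMap ι (𝟙 Ω')) := by
  choose Φ hΦ using exists_diff D ι hι hE c₀
  have hext : ∀ c c' : DefoSh.DefoConn δ nabla D, c.conn = c'.conn → c = c' := by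
    rintro ⟨c, _, _, _⟩ ⟨c', _, _, _⟩ rfl
    rfl
  refine ⟨Equiv.ofBijective Φ ⟨fun c c' h => hext _ _ ?_, fun φ => ⟨addHom D ι hι c₀ φ, ?_⟩⟩, hΦ⟩
  · exact sub_left_inj.1 ((hΦ c).trans (h ▸ (hΦ c').symm))
  · haveI := (shortExact_ι_π D ι hι).epi_g
    haveI := (shortExact_tensor D ι hι hE Ω' (tensor_ι_π D ι hι)).mono_f
    have h := (hΦ (addHom D ι hι c₀ φ)).symm.trans (add_sub_cancel_left _ _)
    rw [(T).map_injective.eq_iff, cancel_epi, cancel_mono] at h
    exact h

/-- Transport equivalence of deformations of a connection. -/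
theorem transport_iff (hE : FlatMod.IsFinLocFree E) (c c' : DefoSh.DefoConn δ nabla D) :
    DefoSh.DefoConn.Transport c c' ↔ ∃ S : E ⟶ E,
      c'.conn - c.conn = (T).map D.π ≫
        (nabla ≫ (T).map (KoszTw.tensorMap S (𝟙 Ω')) - (T).map S ≫ nabla) ≫
          (T).map (KoszTw.tensorMap ι (𝟙 Ω')) := by
  have hS := shortExact_ι_π D ι hι
  haveI := hS.epi_g
  haveI := hS.mono_f
  have hιc' := (isHorizontal_iff _ _ _).1 (ι_horizontal D ι hι c')
  have hπc := (isHorizontal_iff _ _ _).1 c.π_horizontal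
  have key : ∀ S : E ⟶ E, ConnSh.IsHorizontal c.conn c'.conn (𝟙 D.sheaf + D.π ≫ S ≫ ι) ↔
      c'.conn - c.conn = (T).map D.π ≫
        (nabla ≫ (T).map (KoszTw.tensorMap S (𝟙 Ω')) - (T).map S ≫ nabla) ≫
          (T).map (KoszTw.tensorMap ι (𝟙 Ω')) := by
    intro S
    have e1 : KoszTw.tensorMap (D.π ≫ S ≫ ι) (𝟙 Ω') =
        KoszTw.tensorMap D.π (𝟙 Ω') ≫ KoszTw.tensorMap S (𝟙 Ω') ≫ KoszTw.tensorMap ι (𝟙 Ω') := by
      rw [← KoszTw.tensorMap_comp, ← KoszTw.tensorMap_comp, Category.comp_id, Category.comp_id]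
    rw [isHorizontal_iff, tensorMap_add, KoszTw.tensorMap_id, e1]
    simp only [Functor.map_add, CategoryTheory.Functor.map_id, Functor.map_comp, Preadditive.add_comp,
      Preadditive.comp_add, Category.assoc, Preadditive.sub_comp, Preadditive.comp_sub, hιc']
    erw [Category.id_comp, Category.comp_id]
    rw [← reassoc_of% hπc, sub_eq_sub_iff_add_eq_add, add_comm (c.conn)]
  constructor
  · rintro ⟨e, he⟩
    have hgπ : (e.iso.hom - 𝟙 D.sheaf) ≫ D.π = 0 := by
      rw [Preadditive.sub_comp, e.hom_π, Category.id_comp, sub_self]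
    obtain ⟨g, hg⟩ : ∃ g : D.sheaf ⟶ E, g ≫ ι = e.iso.hom - 𝟙 D.sheaf :=
      ⟨hS.exact.lift _ hgπ, hS.exact.lift_f _ _⟩
    have hιg : ι ≫ g = 0 := by
      have h1 : D.act (epsA k) ≫ (e.iso.hom - 𝟙 D.sheaf) = (e.iso.hom - 𝟙 D.sheaf) ≫ D.act (epsA k) := by
        rw [Preadditive.comp_sub, Preadditive.sub_comp, e.act_hom, Category.comp_id, Category.id_comp]
      rw [← hg, show D.act (epsA k) = D.π ≫ ι from hι.symm, Category.assoc (g), reassoc_of% (ι_π D ι hι)] at h1
      simp only [zero_comp, comp_zero] at h1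
      rw [← cancel_epi D.π, ← cancel_mono ι, comp_zero, zero_comp, Category.assoc]
      rwa [Category.assoc] at h1
    obtain ⟨S, hSg⟩ : ∃ S : E ⟶ E, D.π ≫ S = g := ⟨hS.exact.desc g hιg, hS.exact.g_desc _ _⟩
    refine ⟨S, (key S).1 ?_⟩
    rwa [← Category.assoc, hSg, hg, add_sub_cancel]
  · rintro ⟨S, hS'⟩
    let φ : D.sheaf ⟶ D.sheaf := 𝟙 D.sheaf + D.π ≫ S ≫ ι
    have hπ : φ ≫ D.π = D.π := by
      simp [φ, Preadditive.add_comp, ι_π D ι hι]
    have hact : ∀ a : Art.dual k k, D.act a ≫ φ = φ ≫ D.act a := fun z => by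
      let ρ : DualNumber k →ₐ[k] End D.sheaf := D.act
      change (ρ (z : DualNumber k) : D.sheaf ⟶ D.sheaf) ≫ φ = φ ≫ (ρ (z : DualNumber k) : D.sheaf ⟶ D.sheaf)
      rw [act_dual ρ z, show (ρ DualNumber.eps : D.sheaf ⟶ D.sheaf) = D.π ≫ ι from hι.symm]
      simp [φ, Preadditive.add_comp, Preadditive.comp_add, Linear.comp_smul, Linear.smul_comp,
        reassoc_of% (ι_π D ι hι)]
      abel
    haveI := MiscSh16.isIso_defoHom D D φ hact hπ
    exact ⟨⟨asIso φ, hact, hπ⟩, (key S).2 hS'⟩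

end Groth.Agent.DefoSh76
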