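import Groth.Prelude.Def_DefoSh2
import Groth.Agent.MiscSh16.DefoIso
import Groth.Agent.H23.Frame
import Groth.Agent.RPSM.Compact
import Groth.Agent.QCoh.CokerQC
import Groth.Agent.QCoh.Devissage
import Groth.Prelude.Def_FlatMod2
import Groth.Agent.Algz7.Restrict

/-! Deformations of locally free modules are locally trivial. -/

set_option autoImplicit false
set_option linter.style.haveILetI false
set_option backward.isDefEq.respectTransparency false
set_option backward.isDefEq.respectTransparency.types false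
set_option maxHeartbeats 1000000

universe u

open CategoryTheory CategoryTheory.Limits AlgebraicGeometry Opposite TopologicalSpace ArtFun

namespace Groth.Agent.DefoSh76

variable {X : Scheme.{u}}

/-- An epimorphism onto a finite locally free module has local sections. -/
theorem exists_local_section {M E : X.Modules} (π : M ⟶ E) [Epi π] (hE : FlatMod.IsFinLocFree E) (x : X) :
    ∃ (W : X.Opens), x ∈ W ∧ ∃ σ : E.restrict W.ι ⟶ M.restrict W.ι,
      σ ≫ (Scheme.Modules.restrictFunctor W.ι).map π = 𝟙 _ := by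
  obtain ⟨U, n, hxU, ⟨e⟩⟩ := hE x
  obtain ⟨s, hs⟩ := H23.Frame.exists_frame e
  choose V i hxV t ht using fun j => QCoh.exists_local_preimage π (s j) hxU
  obtain ⟨W, hWU, hxW, hW⟩ : ∃ W : X.Opens, W ≤ U ∧ x ∈ W ∧ ∀ j, W ≤ V j :=
    ⟨U ⊓ Finset.univ.inf V, inf_le_left, ⟨hxU, by
        refine Finset.inf_induction (p := fun O : X.Opens => x ∈ O) (s := Finset.univ) (f := V) trivial
          (fun a ha b hb => ⟨ha, hb⟩) fun j _ => hxV j⟩,
      fun j => inf_le_right.trans (Finset.inf_le (Finset.mem_univ j))⟩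
  have hsW : H23.Frame.IsFrame E (fun j => E.presheaf.map (homOfLE hWU).op (s j)) := hs.res hWU
  obtain ⟨e'⟩ := H23.Frame.exists_iso_of_frame _ hsW
  have hsurj : ∀ b : Γ(E.restrict W.ι, ⊤), ∃ a : Γ(M.restrict W.ι, ⊤),
      ((Scheme.Modules.restrictFunctor W.ι).map π).app ⊤ a = b := by
    intro b
    obtain ⟨c, hc⟩ := (hsW (W.ι ''ᵁ ⊤) W.ι_image_top.le).2 b
    refine ⟨H23.Frame.comb M (fun j => M.presheaf.map (homOfLE (hW j)).op (t j)) _ W.ι_image_top.le c, ?_⟩
    refine Eq.trans ?_ hc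
    simp only [H23.Frame.comb]
    refine (map_sum (π.app (W.ι ''ᵁ ⊤)).hom _ _).trans (Finset.sum_congr rfl fun j _ => ?_)
    refine (Scheme.Modules.Hom.app_smul π _ _).trans (congrArg (c j • ·) ?_)
    refine (QCoh.map_app_comm π _ _).trans (congrArg _ ?_)
    refine (QCoh.map_app_comm π (homOfLE (hW j)) (t j)).trans ?_
    rw [ht j]
    exact QCoh.map_map (homOfLE (hW j)) (homOfLE (i j)) (s j)
  choose a ha using fun j =>
    hsurj ((Sigma.ι (fun _ : Fin n => Coh.structureModule (W : Scheme.{u})) j ≫ e'.inv).app ⊤ (H23.Frame.one ⊤))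
  refine ⟨W, hxW, e'.hom ≫ Sigma.desc fun j => QCoh.homOfTop (a j), ?_⟩
  have h : (Sigma.desc fun j => QCoh.homOfTop (a j)) ≫ (Scheme.Modules.restrictFunctor W.ι).map π = e'.inv := by
    refine Sigma.hom_ext _ _ fun j => ?_
    rw [Sigma.ι_desc_assoc]
    refine Scheme.Modules.hom_ext _ _ fun T => AddCommGrpCat.hom_ext (AddMonoidHom.ext fun r => ?_)
    refine (congrArg (((Scheme.Modules.restrictFunctor W.ι).map π).app T) (QCoh.homOfTop_app (a j) r)).trans ?_
    refine (Scheme.Modules.Hom.app_smul _ _ _).trans (Eq.trans ?_ (H23.Frame.app_eq_smul _ T r).symm)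
    refine congrArg (fun m => (show Γ((W : Scheme.{u}), T) from r) • m) ?_
    refine Eq.trans ?_ (H23.Frame.app_one_res (Sigma.ι (fun _ : Fin n => Coh.structureModule (W : Scheme.{u})) j ≫ e'.inv)
      (le_top : T ≤ ⊤))
    refine (QCoh.map_app_comm _ _ _).trans (congrArg _ ?_)
    exact ha j
  rw [Category.assoc, h, e'.hom_inv_id]

theorem restrict_smulModΓ {Y : Scheme.{u}} (f : Y ⟶ X) [IsOpenImmersion f] (M : X.Modules) (r : Coh.Γtop X) :
    (Scheme.Modules.restrictFunctor f).map (Formal.smulModΓ M r) =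
      Formal.smulModΓ ((Scheme.Modules.restrictFunctor f).obj M) (f.appTop r) := by
  apply SheafOfModules.Hom.ext
  ext V m
  exact congrArg (· • (show Γ(M, f ''ᵁ V.unop) from m)) (Algz7.appIso_inv_res f V.unop r)

theorem comp_res_stalk {M N : X.Modules} (W : X.Opens) (g : M ⟶ N) (p : (W : Scheme.{u})) :
    ((TopCat.Presheaf.stalkFunctor Ab p).map ((Scheme.Modules.restrictFunctor W.ι).map g).mapPresheaf) ≫
        (Scheme.Modules.restrictStalkNatIso W.ι p).hom.app N =
      (Scheme.Modules.restrictStalkNatIso W.ι p).hom.app M ≫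
        (TopCat.Presheaf.stalkFunctor Ab (W.ι p)).map g.mapPresheaf :=
  (Scheme.Modules.restrictStalkNatIso W.ι p).hom.naturality g

theorem conj_comm {A B C : Type*} [Category A] [Category B] [Category C] {R : A ⥤ B} {F : B ⥤ C} {G : A ⥤ C}
    (ρ : R ⋙ F ≅ G) {M N : A} (φ : R.obj M ⟶ R.obj N) (a : M ⟶ M) (b : N ⟶ N)
    (h : R.map a ≫ φ = φ ≫ R.map b) :
    G.map a ≫ (ρ.inv.app M ≫ F.map φ ≫ ρ.hom.app N) = (ρ.inv.app M ≫ F.map φ ≫ ρ.hom.app N) ≫ G.map b := by
  rw [reassoc_of% (ρ.inv.naturality a)]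
  simp only [Functor.comp_map, Category.assoc]
  rw [← F.map_comp_assoc, h, F.map_comp_assoc]
  exact congrArg _ (congrArg _ (ρ.hom.naturality b))

theorem conj_comp {A B C : Type*} [Category A] [Category B] [Category C] {R : A ⥤ B} {F : B ⥤ C} {G : A ⥤ C}
    (ρ : R ⋙ F ≅ G) {M N P : A} (φ : R.obj M ⟶ R.obj N) (a : N ⟶ P) (b : M ⟶ P)
    (h : φ ≫ R.map a = R.map b) :
    (ρ.inv.app M ≫ F.map φ ≫ ρ.hom.app N) ≫ G.map a = G.map b := by
  rw [Category.assoc, Category.assoc, ← ρ.hom.naturality a]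
  simp only [Functor.comp_map]
  rw [← F.map_comp_assoc, h]
  exact (congrArg _ (ρ.hom.naturality b)).trans (ρ.inv_hom_id_app_assoc M _)

variable {k : Type u} [Field k] [X.Over (Spec (CommRingCat.of k))] {E : X.Modules}

theorem act_dual {Q : X.Modules} (ρ : DualNumber k →ₐ[k] End Q) (z : DualNumber k) :
    (ρ z : Q ⟶ Q) = z.fst • 𝟙 Q + (ρ DualNumber.eps : Q ⟶ Q) ≫ (z.snd • 𝟙 Q) := by
  conv_lhs => rw [show z = algebraMap k (DualNumber k) z.fst +
    algebraMap k (DualNumber k) z.snd * DualNumber.eps from TrivSqZeroExt.ext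
      (by simp [TrivSqZeroExt.algebraMap_eq_inl]) (by simp [TrivSqZeroExt.algebraMap_eq_inl])]
  rw [map_add, map_mul, AlgHom.commutes, AlgHom.commutes, Algebra.algebraMap_eq_smul_one,
    Algebra.algebraMap_eq_smul_one, End.mul_def]
  rfl

theorem comm_of_comm_eps {M N : X.Modules} (W : X.Opens) (ρ : DualNumber k →ₐ[k] End M)
    (ρ' : DualNumber k →ₐ[k] End N) (φ : M.restrict W.ι ⟶ N.restrict W.ι)
    (h : (Scheme.Modules.restrictFunctor W.ι).map (ρ DualNumber.eps) ≫ φ =
      φ ≫ (Scheme.Modules.restrictFunctor W.ι).map (ρ' DualNumber.eps)) (z : DualNumber k) :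
    (Scheme.Modules.restrictFunctor W.ι).map (ρ z) ≫ φ = φ ≫ (Scheme.Modules.restrictFunctor W.ι).map (ρ' z) := by
  haveI : (Scheme.Modules.restrictFunctor W.ι).Additive := Functor.additive_of_preserves_binary_products _
  have hsm : ∀ c : k, (Scheme.Modules.restrictFunctor W.ι).map (c • 𝟙 M) ≫ φ =
      φ ≫ (Scheme.Modules.restrictFunctor W.ι).map (c • 𝟙 N) := fun c => by
    rw [KLin.smul_id, KLin.smul_id, Formal.smulMod, Formal.smulMod, restrict_smulModΓ, restrict_smulModΓ,
      KLin.comp_smulModΓ]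
  rw [act_dual ρ z, act_dual ρ' z, Functor.map_add, Functor.map_add, Preadditive.add_comp, Preadditive.comp_add,
    hsm, Functor.map_comp, Functor.map_comp, Category.assoc, hsm, reassoc_of% h]

/-- A local section of the reduction trivialises a first-order deformation. -/
theorem exists_triv_iso (D : DefoSh.Defo E (Art.dual k k)) (W : X.Opens) (σ : E.restrict W.ι ⟶ D.sheaf.restrict W.ι)
    (hσ : σ ≫ (Scheme.Modules.restrictFunctor W.ι).map D.π = 𝟙 _) :
    ∃ e : (DefoSh.Defo.trivDual k E).sheaf.restrict W.ι ≅ D.sheaf.restrict W.ι,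
      e.hom ≫ (Scheme.Modules.restrictFunctor W.ι).map D.π =
        (Scheme.Modules.restrictFunctor W.ι).map (DefoSh.Defo.trivDual k E).π ∧
      ∀ a : Art.dual k k, (Scheme.Modules.restrictFunctor W.ι).map ((DefoSh.Defo.trivDual k E).act a) ≫ e.hom =
        e.hom ≫ (Scheme.Modules.restrictFunctor W.ι).map (D.act a) := by
  let R := Scheme.Modules.restrictFunctor W.ι
  haveI : R.Additive := Functor.additive_of_preserves_binary_products _
  let ε : (Art.dual k k : Type u) := (DualNumber.eps : DualNumber k)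
  let ρ' : DualNumber k →ₐ[k] End D.sheaf := D.act
  let e₀ : D.sheaf ⟶ D.sheaf := ρ' DualNumber.eps
  have hεπ : e₀ ≫ D.π = 0 := D.act_π ε rfl
  let φ : R.obj (E ⊞ E) ⟶ R.obj D.sheaf :=
    R.map biprod.fst ≫ σ + R.map biprod.snd ≫ σ ≫ R.map e₀
  have hπ : φ ≫ R.map D.π = R.map (biprod.fst : E ⊞ E ⟶ E) := by
    simp only [φ, Preadditive.add_comp, Category.assoc]
    rw [hσ, ← R.map_comp, hεπ, R.map_zero, comp_zero, comp_zero, add_zero, Category.comp_id]
  have hact : ∀ a : (Art.dual k k : Type u),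
      R.map ((DefoSh.Defo.trivDual k E).act a) ≫ φ = φ ≫ R.map (D.act a) := by
    refine comm_of_comm_eps W (DefoSh.dualAct k E) ρ' φ ?_
    have hεε : e₀ ≫ e₀ = 0 := by
      refine (End.mul_def (ρ' DualNumber.eps) (ρ' DualNumber.eps)).symm.trans ?_
      rw [← map_mul, DualNumber.eps_mul_eps, map_zero]
    rw [DefoSh.dualAct_eps]
    change R.map _ ≫ φ = φ ≫ R.map e₀
    simp only [φ, Preadditive.add_comp, Preadditive.comp_add, Category.assoc, ← Functor.map_comp_assoc,
      biprod.inr_fst, biprod.inr_snd]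
    rw [← R.map_comp e₀ e₀, hεε]
    simp
  haveI : IsIso φ := by
    refine Groth.Agent.ZClosLib.isIso_of_stalkMap_bijective φ fun p => ?_
    let A : Art k k := Art.dual k k
    let D₀ := DefoSh.Defo.trivDual k E
    let x : X := W.ι p
    letI := D₀.stalkMod x
    letI := D.stalkMod x
    haveI : Module.Flat A (D.sheaf.presheaf.stalk x) := D.flat x
    let F := Scheme.Modules.toPresheaf (W : Scheme.{u}) ⋙ TopCat.Presheaf.stalkFunctor AddCommGrpCat.{u} p
    let G := Scheme.Modules.toPresheaf X ⋙ TopCat.Presheaf.stalkFunctor AddCommGrpCat.{u} x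
    let ρ : R ⋙ F ≅ G := Scheme.Modules.restrictStalkNatIso W.ι p
    let ψ : G.obj D₀.sheaf ⟶ G.obj D.sheaf := ρ.inv.app _ ≫ F.map φ ≫ ρ.hom.app _
    have hψact : ∀ a : A, G.map (D₀.act a) ≫ ψ = ψ ≫ G.map (D.act a) := fun a =>
      conj_comm ρ φ _ _ (hact a)
    have hψπ : ψ ≫ G.map D.π = G.map D₀.π := conj_comp ρ φ D.π D₀.π hπ
    let f : D₀.sheaf.presheaf.stalk x →ₗ[A] D.sheaf.presheaf.stalk x :=
      { toFun := ψ
        map_add' := map_add _
        map_smul' := fun a v => ConcreteCategory.congr_hom (hψact a) v }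
    have hb : Function.Bijective f := by
      refine MiscSh16.bijective_of_mod_nilpotent (IsLocalRing.maximalIdeal A) ?_ f
        (RefHull.stalkMapₗ D₀.π x) (RefHull.stalkMapₗ D.π x) (D₀.surj x)
        (fun v => ConcreteCategory.congr_hom hψπ v) (D₀.ker_le x) (D.ker_le x) (map_zero _)
        fun a b h => by rw [map_sub, h, sub_self]
      rw [← IsLocalRing.jacobson_eq_maximalIdeal (⊥ : Ideal A) bot_ne_top]
      exact IsArtinianRing.isNilpotent_jacobson_bot
    haveI : IsIso ψ := (ConcreteCategory.isIso_iff_bijective ψ).2 hb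
    haveI h3 : IsIso (F.map φ) := by
      haveI : IsIso (ρ.inv.app D₀.sheaf ≫ (F.map φ ≫ ρ.hom.app D.sheaf)) := ‹IsIso ψ›
      haveI : IsIso (F.map φ ≫ ρ.hom.app D.sheaf) := IsIso.of_isIso_comp_left (ρ.inv.app D₀.sheaf) _
      exact IsIso.of_isIso_comp_right (F.map φ) (ρ.hom.app D.sheaf)
    exact (ConcreteCategory.isIso_iff_bijective (F.map φ)).1 h3
  exact ⟨asIso φ, hπ, hact⟩

/-- A first-order deformation of a finite locally free module is locally trivial. -/
theorem locTriv (hE : FlatMod.IsFinLocFree E) (D : DefoSh.Defo E (Art.dual k k)) (x : X) :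
    ∃ (U : X.Opens) (e : D.sheaf.restrict U.ι ≅ (DefoSh.Defo.trivDual k E).sheaf.restrict U.ι), x ∈ U ∧
      e.hom ≫ (Scheme.Modules.restrictFunctor U.ι).map (DefoSh.Defo.trivDual k E).π =
        (Scheme.Modules.restrictFunctor U.ι).map D.π ∧
      ∀ a : ArtFun.Art.dual k k, (Scheme.Modules.restrictFunctor U.ι).map (D.act a) ≫ e.hom =
        e.hom ≫ (Scheme.Modules.restrictFunctor U.ι).map ((DefoSh.Defo.trivDual k E).act a) := by
  haveI : Epi D.π := RPSM.epi_of_stalk D.π fun p => (ModuleCat.epi_iff_surjective _).2 fun v => D.surj p v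
  obtain ⟨W, hxW, σ, hσ⟩ := exists_local_section D.π hE x
  obtain ⟨e, he, hea⟩ := exists_triv_iso D W σ hσ
  refine ⟨W, e.symm, hxW, ?_, fun a => ?_⟩
  · rw [Iso.symm_hom, ← he, e.inv_hom_id_assoc]
  · rw [Iso.symm_hom, Iso.comp_inv_eq, Category.assoc, hea, e.inv_hom_id_assoc]

end Groth.Agent.DefoSh76
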