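import Groth.Agent.KFlatLib.Scheme.Tensor
import Groth.Agent.DefoSh76.LocTriv
import Groth.Agent.RPSM.Compact
import Groth.Agent.QCoh.LocFree
import Groth.Prelude.Def_KoszTw
import Mathlib.RingTheory.Flat.EquationalCriterion

/-! The short exact sequence of a first-order deformation, and its tensor products. -/

set_option autoImplicit false
set_option linter.style.haveILetI false
set_option backward.isDefEq.respectTransparency false
set_option backward.isDefEq.respectTransparency.types false

universe u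

open CategoryTheory CategoryTheory.Limits AlgebraicGeometry Opposite TopologicalSpace ArtFun

namespace Groth.Agent.DefoSh76

variable {k : Type u} [Field k] {X : Scheme.{u}} [X.Over (Spec (CommRingCat.of k))] {E : X.Modules}

/-- `ε` in the coefficient algebra `k[ε]`. -/
abbrev epsA (k : Type u) [Field k] : Art.dual k k := (DualNumber.eps : DualNumber k)

theorem mem_of_eps_smul_eq_zero {M : Type u} [AddCommGroup M] [Module (Art.dual k k : Type u) M]
    [Module.Flat (Art.dual k k : Type u) M] (v : M)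
    (h : epsA k • v = 0) :
    v ∈ (IsLocalRing.maximalIdeal (Art.dual k k)) • (⊤ : Submodule (Art.dual k k : Type u) M) := by
  have hrel := Module.Flat.isTrivialRelation_of_sum_smul_eq_zero (R := (Art.dual k k : Type u)) (M := M)
    (f := fun _ : Fin 1 => epsA k)
    (x := fun _ => v) (by simpa using h)
  obtain ⟨κ, a, y, hv, ha⟩ := hrel
  have hv0 : v = _ := hv 0
  rw [hv0]
  refine Submodule.sum_mem _ fun j _ => Submodule.smul_mem_smul ?_ Submodule.mem_top
  have haj : ∑ i : Fin 1, epsA k * a i j = 0 := ha j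
  simp only [Finset.univ_unique, Finset.sum_singleton] at haj
  rw [IsLocalRing.mem_maximalIdeal]
  intro hu
  have := (hu.mul_left_eq_zero).1 haj
  exact one_ne_zero (α := k) (congrArg (fun z : DualNumber k => z.snd) this |>.trans TrivSqZeroExt.snd_zero)

variable (D : DefoSh.Defo E (Art.dual k k)) (ι : E ⟶ D.sheaf)
  (hι : D.π ≫ ι = D.act (DualNumber.eps : DualNumber k))

include hι

theorem ι_π : ι ≫ D.π = 0 := by
  haveI : Epi D.π := RPSM.epi_of_stalk D.π fun p => (ModuleCat.epi_iff_surjective _).2 fun v => D.surj p v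
  rw [← cancel_epi D.π, comp_zero, ← Category.assoc, hι]
  exact D.act_π (epsA k) rfl

theorem shortExact_ι_π : (ShortComplex.mk ι D.π (ι_π D ι hι)).ShortExact := by
  rw [KFlatLib.shortExact_iff_stalk]
  intro p
  letI := D.stalkMod p
  haveI : Module.Flat (Art.dual k k : Type u) (D.sheaf.presheaf.stalk p) := D.flat p
  have hsurj : ∀ v, ∃ a, RefHull.stalkMapₗ D.π p a = v := D.surj p
  have hε : ∀ v, RefHull.stalkMapₗ ι p (RefHull.stalkMapₗ D.π p v) =
      epsA k • v := fun v => by
    rw [← DefoSh.stalkMapₗ_comp_apply, hι]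
    rfl
  have hm : ∀ v ∈ (IsLocalRing.maximalIdeal (Art.dual k k)) • (⊤ : Submodule (Art.dual k k : Type u) (D.sheaf.presheaf.stalk p)),
      RefHull.stalkMapₗ D.π p v = 0 ∧ ∃ w, epsA k • w = v := by
    intro v hv
    refine Submodule.smul_induction_on hv (fun a ha w _ => ?_) ?_
    · refine ⟨?_, (show (Art.dual k k : Type u) from (TrivSqZeroExt.snd (a : DualNumber k) • (1 : DualNumber k) : DualNumber k)) • w, ?_⟩
      · change RefHull.stalkMapₗ D.π p (RefHull.stalkMapₗ (D.act a) p w) = 0
        rw [← DefoSh.stalkMapₗ_comp_apply, D.act_π a ((Art.mem_maximalIdeal_iff _ a).1 ha),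
          DefoSh.stalkMapₗ_zero_apply]
      · rw [smul_smul]
        congr 1
        have hfst : TrivSqZeroExt.fst (a : DualNumber k) = 0 := (Art.mem_maximalIdeal_iff _ a).1 ha
        show (DualNumber.eps : DualNumber k) * (TrivSqZeroExt.snd (a : DualNumber k) • 1) = (a : DualNumber k)
        exact TrivSqZeroExt.ext (by simp [hfst]) (by simp)
    · rintro v w ⟨h1, v', rfl⟩ ⟨h2, w', rfl⟩
      exact ⟨by rw [map_add, h1, h2, add_zero], v' + w', smul_add _ _ _⟩
  refine ShortComplex.ShortExact.mk' ?_ ?_ ((ModuleCat.epi_iff_surjective _).2 hsurj)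
  · rw [ShortComplex.ShortExact.moduleCat_exact_iff_function_exact]
    intro v
    change RefHull.stalkMapₗ D.π p v = 0 ↔ v ∈ Set.range (RefHull.stalkMapₗ ι p)
    refine ⟨fun hv => ?_, ?_⟩
    · obtain ⟨-, w, hw⟩ := hm v (D.ker_le p v hv)
      exact ⟨RefHull.stalkMapₗ D.π p w, (hε w).trans hw⟩
    · rintro ⟨e, rfl⟩
      rw [← DefoSh.stalkMapₗ_comp_apply, ι_π D ι hι, DefoSh.stalkMapₗ_zero_apply]
  · rw [ModuleCat.mono_iff_injective]
    refine (injective_iff_map_eq_zero _).2 fun e he => ?_
    obtain ⟨v, rfl⟩ := hsurj e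
    exact (hm v (mem_of_eps_smul_eq_zero v ((hε v).symm.trans he))).1

omit hι in
theorem isFlat_of_isFinLocFree {M : X.Modules} (h : FlatMod.IsFinLocFree M) : FlatMod.IsFlat M := fun x =>
  haveI := QCoh.free_stalk_of_isFinLocFree h x
  Module.Flat.of_free

/-- The sequence stays exact after tensoring, when `E` is finite locally free. -/
theorem shortExact_tensor (hE : FlatMod.IsFinLocFree E) (Ω' : X.Modules)
    (h0 : KoszTw.tensorMap ι (𝟙 Ω') ≫ KoszTw.tensorMap D.π (𝟙 Ω') = 0) :
    (ShortComplex.mk (KoszTw.tensorMap ι (𝟙 Ω')) (KoszTw.tensorMap D.π (𝟙 Ω')) h0).ShortExact := by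
  haveI : ((DCoh.tensorBi (X := X)).flip.obj Ω').PreservesZeroMorphisms :=
    Functor.preservesZeroMorphisms_of_iso ((KFlatLib.tensorBiFlipIso X).app Ω').symm
  have h := (ShortComplex.shortExact_of_iso
    ((ShortComplex.mk ι D.π (ι_π D ι hι)).mapNatIso ((KFlatLib.tensorBiFlipIso X).app Ω')).symm
    (KFlatLib.shortExact_tensor_of_isFlat Ω' (shortExact_ι_π D ι hι) (isFlat_of_isFinLocFree hE)))
  let S₁ := (ShortComplex.mk ι D.π (ι_π D ι hι)).map ((DCoh.tensorBi (X := X)).flip.obj Ω')
  let S₂ := ShortComplex.mk (KoszTw.tensorMap ι (𝟙 Ω')) (KoszTw.tensorMap D.π (𝟙 Ω')) h0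
  have e1 : S₁.f = S₂.f := KoszTw.tensorBi_map_app ι Ω'
  have e2 : S₁.g = S₂.g := KoszTw.tensorBi_map_app D.π Ω'
  exact ShortComplex.shortExact_of_iso (show S₁ ≅ S₂ from ShortComplex.isoMk (Iso.refl _) (Iso.refl _) (Iso.refl _)
    ((Category.id_comp _).trans (e1.symm.trans (Category.comp_id _).symm))
    ((Category.id_comp _).trans (e2.symm.trans (Category.comp_id _).symm))) h

end Groth.Agent.DefoSh76
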